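import Mathlib
import Cfsg.Agent.Lib.Helper5.HermCenter

set_option autoImplicit false

/-!
# The `σ`-adjoint of a square matrix
-/

namespace Cfsg.Agent.Lib.Helper5.SUReg

open Matrix Cfsg
open Cfsg.Agent.Lib.Helper5.HermBridge Cfsg.Agent.Lib.Helper5.HermCenter

section adj
variable {K : Type*} [Field K] (σ : K →+* K) {n : ℕ}

/-- the `σ`-adjoint (conjugate transpose) of a matrix -/
def adj (M : Matrix (Fin n) (Fin n) K) : Matrix (Fin n) (Fin n) K := (M.map σ)ᵀ

theorem adj_apply (M : Matrix (Fin n) (Fin n) K) (i j : Fin n) : adj σ M i j = σ (M j i) := rfl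

theorem adj_mul (M N : Matrix (Fin n) (Fin n) K) : adj σ (M * N) = adj σ N * adj σ M := by
  unfold adj
  rw [Matrix.map_mul, Matrix.transpose_mul]

theorem adj_add (M N : Matrix (Fin n) (Fin n) K) : adj σ (M + N) = adj σ M + adj σ N := by
  ext i j
  simp only [adj_apply, Matrix.add_apply, map_add]

theorem adj_sub (M N : Matrix (Fin n) (Fin n) K) : adj σ (M - N) = adj σ M - adj σ N := by
  ext i j
  simp only [adj_apply, Matrix.sub_apply, map_sub]

theorem adj_neg (M : Matrix (Fin n) (Fin n) K) : adj σ (-M) = -adj σ M := by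
  ext i j
  simp only [adj_apply, Matrix.neg_apply, map_neg]

theorem adj_zero : adj σ (0 : Matrix (Fin n) (Fin n) K) = 0 := by
  ext i j
  simp only [adj_apply, Matrix.zero_apply, map_zero]

theorem adj_one : adj σ (1 : Matrix (Fin n) (Fin n) K) = 1 := by
  ext i j
  rw [adj_apply, Matrix.one_apply, Matrix.one_apply]
  by_cases h : i = j
  · rw [if_pos h, if_pos h.symm, map_one]
  · rw [if_neg h, if_neg (Ne.symm h), map_zero]

theorem adj_smul (c : K) (M : Matrix (Fin n) (Fin n) K) : adj σ (c • M) = σ c • adj σ M := by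
  ext i j
  simp only [adj_apply, Matrix.smul_apply, smul_eq_mul, map_mul]

theorem adj_pow (M : Matrix (Fin n) (Fin n) K) (k : ℕ) : adj σ (M ^ k) = adj σ M ^ k := by
  induction k with
  | zero => rw [pow_zero, pow_zero, adj_one]
  | succ k ih => rw [pow_succ, pow_succ', adj_mul, ih]

theorem adj_adj (hσ : ∀ a : K, σ (σ a) = a) (M : Matrix (Fin n) (Fin n) K) :
    adj σ (adj σ M) = M := by
  ext i j
  rw [adj_apply, adj_apply, hσ]

/-- the adjoint of a two-sided inverse -/
theorem adj_inv_mul {M M' : Matrix (Fin n) (Fin n) K} (h : M * M' = 1) :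
    adj σ M' * adj σ M = 1 := by
  rw [← adj_mul, h, adj_one]

theorem commute_adj {M N : Matrix (Fin n) (Fin n) K} (h : M * N = N * M) :
    adj σ M * adj σ N = adj σ N * adj σ M := by
  rw [← adj_mul, ← adj_mul, h]

end adj

section unitary
variable {K : Type*} [Field K] [Fintype K] {q : ℕ} (hK : Fintype.card K = q ^ 2) {n : ℕ}

theorem isU_iff_adj (M : Matrix (Fin n) (Fin n) K) : IsU q M ↔ adj (sigma hK) M * M = 1 := by
  unfold IsU adj
  constructor
  · intro h
    have h1 := congrArg Matrix.transpose h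
    rw [Matrix.transpose_mul, Matrix.transpose_transpose, Matrix.transpose_one] at h1
    exact h1
  · intro h
    have h1 := congrArg Matrix.transpose h
    rw [Matrix.transpose_mul, Matrix.transpose_transpose, Matrix.transpose_one] at h1
    exact h1

theorem adj_mul_self_of_mem_GU (g : ↥(Cfsg.GU n K q)) :
    adj (sigma hK) ((g : GL (Fin n) K) : Matrix (Fin n) (Fin n) K) *
      ((g : GL (Fin n) K) : Matrix (Fin n) (Fin n) K) = 1 :=
  (isU_iff_adj hK _).1 ((mem_GU_iff' hK _).1 g.2)

theorem self_mul_adj_of_mem_GU (g : ↥(Cfsg.GU n K q)) :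
    ((g : GL (Fin n) K) : Matrix (Fin n) (Fin n) K) *
      adj (sigma hK) ((g : GL (Fin n) K) : Matrix (Fin n) (Fin n) K) = 1 :=
  mul_eq_one_comm.1 (adj_mul_self_of_mem_GU hK g)

/-- an invertible matrix with `adj M * M = 1` gives an element of `GU` -/
theorem exists_GU_of_adj (M : Matrix (Fin n) (Fin n) K) (h : adj (sigma hK) M * M = 1) :
    ∃ g : ↥(Cfsg.GU n K q), ((g : GL (Fin n) K) : Matrix (Fin n) (Fin n) K) = M := by
  have h' : M * adj (sigma hK) M = 1 := mul_eq_one_comm.1 h
  refine ⟨⟨⟨M, adj (sigma hK) M, h', h⟩, ?_⟩, rfl⟩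
  rw [mem_GU_iff' hK, isU_iff_adj hK]
  exact h

end unitary

end Cfsg.Agent.Lib.Helper5.SUReg
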