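import Mathlib
import Cfsg.Agent.Lib.Helper5.SUReg.Adj
import Cfsg.Agent.Lib.Helper5.HermBasis

set_option autoImplicit false

/-!
# Invertible hermitian matrices over a finite field are of the form `adj P * P`
-/

namespace Cfsg.Agent.Lib.Helper5.SUReg

open Matrix Module Cfsg
open Cfsg.Agent.Lib.Helper5 Cfsg.Agent.Lib.Helper5.HermBasis
open Cfsg.Agent.Lib.Helper5.HermBridge

section form
variable {K : Type*} [Field K] (σ : K →+* K) {n : ℕ}

/-- the sesquilinear form with Gram matrix `H` -/
def formOf (H : Matrix (Fin n) (Fin n) K) : (Fin n → K) →ₛₗ[σ] (Fin n → K) →ₗ[K] K :=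
  LinearMap.mk₂'ₛₗ σ (RingHom.id K) (fun x y => ∑ i, σ (x i) * (H *ᵥ y) i)
    (fun x x' y => by
      simp only [Pi.add_apply, map_add, add_mul, Finset.sum_add_distrib])
    (fun c x y => by
      simp only [Pi.smul_apply, smul_eq_mul, map_mul, mul_assoc, Finset.mul_sum])
    (fun x y y' => by
      simp only [Matrix.mulVec_add, Pi.add_apply, mul_add, Finset.sum_add_distrib])
    (fun c x y => by
      simp only [Matrix.mulVec_smul, Pi.smul_apply, smul_eq_mul, RingHom.id_apply,
        Finset.mul_sum]
      apply Finset.sum_congr rfl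
      intro i _
      ring)

theorem formOf_apply (H : Matrix (Fin n) (Fin n) K) (x y : Fin n → K) :
    formOf σ H x y = ∑ i, σ (x i) * (H *ᵥ y) i := rfl

theorem formOf_single (H : Matrix (Fin n) (Fin n) K) (i j : Fin n) :
    formOf σ H (Pi.single i 1) (Pi.single j 1) = H i j := by
  classical
  rw [formOf_apply, Finset.sum_eq_single i]
  · rw [Pi.single_eq_same, map_one, one_mul, Matrix.mulVec_single_one]
    rfl
  · intro k _ hk
    rw [Pi.single_eq_of_ne hk, map_zero, zero_mul]
  · intro h
    exact absurd (Finset.mem_univ i) h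

theorem formOf_isSymm (hσ2 : ∀ a : K, σ (σ a) = a) (H : Matrix (Fin n) (Fin n) K)
    (hH : adj σ H = H) : (formOf σ H).IsSymm := by
  refine ⟨fun x y => ?_⟩
  rw [formOf_apply, formOf_apply]
  simp only [Matrix.mulVec, dotProduct, map_sum, map_mul, hσ2, Finset.mul_sum]
  rw [Finset.sum_comm]
  apply Finset.sum_congr rfl
  intro j _
  apply Finset.sum_congr rfl
  intro i _
  have h1 : σ (H i j) = H j i := by
    have h2 := congrFun (congrFun hH j) i
    rw [adj_apply] at h2
    exact h2
  rw [h1]
  ring

theorem formOf_nondegenerate (H H' : Matrix (Fin n) (Fin n) K) (hinv : H * H' = 1) :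
    (formOf σ H).Nondegenerate := by
  classical
  have hinv' : H' * H = 1 := mul_eq_one_comm.1 hinv
  constructor
  · intro x hx
    funext i
    have h1 := hx (H' *ᵥ Pi.single i 1)
    rw [formOf_apply] at h1
    simp only [Matrix.mulVec_mulVec, hinv, Matrix.one_mulVec] at h1
    rw [Finset.sum_eq_single i] at h1
    · rw [Pi.single_eq_same, mul_one] at h1
      exact (map_eq_zero σ).1 h1
    · intro k _ hk
      rw [Pi.single_eq_of_ne hk, mul_zero]
    · intro h
      exact absurd (Finset.mem_univ i) h
  · intro y hy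
    have h0 : H *ᵥ y = 0 := by
      funext i
      have h1 := hy (Pi.single i 1)
      rw [formOf_apply, Finset.sum_eq_single i] at h1
      · rw [Pi.single_eq_same, map_one, one_mul] at h1
        exact h1
      · intro k _ hk
        rw [Pi.single_eq_of_ne hk, map_zero, zero_mul]
      · intro h
        exact absurd (Finset.mem_univ i) h
    have h2 : H' *ᵥ (H *ᵥ y) = y := by
      rw [Matrix.mulVec_mulVec, hinv', Matrix.one_mulVec]
    rw [← h2, h0, Matrix.mulVec_zero]

end form

section herm
variable {K : Type*} [Field K] [Finite K] (σ : K →+* K) {n : ℕ}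

/-- an invertible hermitian matrix over a finite field is of the form `adj P * P` -/
theorem exists_adj_mul_self (hσ : σ ≠ RingHom.id K) (hσ2 : ∀ a : K, σ (σ a) = a)
    (H H' : Matrix (Fin n) (Fin n) K) (hH : adj σ H = H) (hinv : H * H' = 1) :
    ∃ P P' : Matrix (Fin n) (Fin n) K, P' * P = 1 ∧ adj σ P * P = H := by
  classical
  have hinv' : H' * H = 1 := mul_eq_one_comm.1 hinv
  obtain ⟨b, hb⟩ := exists_orthonormal_basis hσ hσ2 (formOf σ H) (formOf_isSymm σ hσ2 H hH)
    (formOf_nondegenerate σ H H' hinv)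
  have hdim : finrank K (Fin n → K) = n := Module.finrank_fin_fun K
  obtain ⟨b', hb'⟩ : ∃ b' : Basis (Fin n) K (Fin n → K), b' = b.reindex (finCongr hdim) :=
    ⟨_, rfl⟩
  have hb'o : ∀ i j, formOf σ H (b' i) (b' j) = if i = j then 1 else 0 := by
    intro i j
    rw [hb', Basis.reindex_apply, Basis.reindex_apply, hb]
    by_cases hij : i = j
    · rw [if_pos hij, if_pos (by rw [hij])]
    · rw [if_neg hij, if_neg (fun h => hij ((finCongr hdim).symm.injective h))]
  have key : ∀ x y : Fin n → K,
      formOf σ H x y = ∑ k, σ (b'.repr x k) * b'.repr y k := by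
    intro x y
    conv_lhs => rw [← b'.sum_repr x, ← b'.sum_repr y]
    simp only [map_sum, LinearMap.sum_apply, map_smulₛₗ, LinearMap.smul_apply, hb'o, smul_eq_mul,
      mul_ite, mul_one, mul_zero, RingHom.id_apply]
    apply Finset.sum_congr rfl
    intro i _
    rw [Finset.sum_ite_eq' Finset.univ i, if_pos (Finset.mem_univ i), mul_comm]
  obtain ⟨P, hP⟩ : ∃ P : Matrix (Fin n) (Fin n) K,
      P = Matrix.of (fun k i => b'.repr (Pi.single i 1) k) := ⟨_, rfl⟩
  have hPH : adj σ P * P = H := by
    ext i j
    rw [Matrix.mul_apply, ← formOf_single σ H i j, key]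
    apply Finset.sum_congr rfl
    intro k _
    rw [adj_apply, hP]
    rfl
  exact ⟨P, H' * adj σ P, by rw [mul_assoc, hPH, hinv'], hPH⟩

end herm

end Cfsg.Agent.Lib.Helper5.SUReg
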