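import Mathlib
import Cfsg.Agent.S2578
import Cfsg.Agent.Lib.Helper5.SUReg.Adj

set_option autoImplicit false

/-!
# The centralizer of a regular nilpotent matrix
-/

namespace Cfsg.Agent.Lib.Helper5.SUReg

open Matrix Polynomial Module Cfsg
open Cfsg.Agent.Lib.Helper5

variable {K : Type*} [Field K] {n : ℕ}

/-- regular nilpotent matrices -/
def RegNil (N : Matrix (Fin n) (Fin n) K) : Prop := N ^ n = 0 ∧ N.rank = n - 1

theorem regNil_of_reg {A : Matrix (Fin n) (Fin n) K} (h : Cfsg.Agent.S2578.Reg A) :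
    RegNil (A - 1) := h

theorem mulVecLin_aeval (N : Matrix (Fin n) (Fin n) K) (p : K[X]) :
    Matrix.mulVecLin (aeval N p) = aeval (Matrix.mulVecLin N : Module.End K (Fin n → K)) p := by
  have h := Polynomial.aeval_algHom_apply
    (Matrix.toLinAlgEquiv' (R := K) (n := Fin n)).toAlgHom N p
  exact h.symm

/-- a matrix commuting with a regular nilpotent matrix is a polynomial in it -/
theorem exists_aeval_of_commute (hn : 1 ≤ n) {N : Matrix (Fin n) (Fin n) K} (hN : RegNil N)
    (d : Matrix (Fin n) (Fin n) K) (hd : d * N = N * d) : ∃ p : K[X], d = aeval N p := by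
  have hreg : Cfsg.Agent.S2578.Reg (N + 1) := by
    unfold Cfsg.Agent.S2578.Reg
    rw [add_sub_cancel_right]
    exact hN
  obtain ⟨hfn, hker⟩ := Cfsg.Agent.S2578.reg_data hn hreg
  rw [add_sub_cancel_right] at hfn hker
  obtain ⟨f, hf⟩ : ∃ f : Module.End K (Fin n → K), f = Matrix.mulVecLin N := ⟨_, rfl⟩
  rw [← hf] at hfn hker
  have hdim : finrank K (Fin n → K) = n := Module.finrank_fin_fun K
  obtain ⟨v, hv⟩ := exists_cyclic f hker hfn (by rw [hdim]; exact hn)
  obtain ⟨e, he⟩ : ∃ e : Module.End K (Fin n → K), e = Matrix.mulVecLin d := ⟨_, rfl⟩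
  have hef : ∀ x, e (f x) = f (e x) := by
    intro x
    rw [he, hf]
    simp only [Matrix.mulVecLin_apply, Matrix.mulVec_mulVec, hd]
  obtain ⟨b, hb⟩ : ∃ b : Basis (Fin (finrank K (Fin n → K))) K (Fin n → K),
      b = cyclicBasis f hfn v hv := ⟨_, rfl⟩
  obtain ⟨p, hp⟩ : ∃ p : K[X], p = ∑ i, C (b.repr (e v) i) * X ^ (i : ℕ) := ⟨_, rfl⟩
  have h1 : aeval f p v = e v := by
    rw [hp, map_sum, LinearMap.sum_apply]
    conv_rhs => rw [← b.sum_repr (e v)]
    apply Finset.sum_congr rfl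
    intro i _
    rw [map_mul, aeval_C, map_pow, aeval_X, Module.End.mul_apply, hb, cyclicBasis_apply,
      Module.algebraMap_end_apply]
  have hpf : ∀ x, aeval f p (f x) = f (aeval f p x) := by
    intro x
    have h2 : aeval f p * f = f * aeval f p := by
      have h3 : aeval f (p * X) = aeval f (X * p) := by rw [mul_comm]
      rwa [map_mul, map_mul, aeval_X] at h3
    have h4 := congrArg (fun g : Module.End K (Fin n → K) => g x) h2
    exact h4
  have h2 : aeval f p = e := eq_of_commute_of_apply_eq f hfn v hv _ _ hpf hef h1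
  refine ⟨p, ?_⟩
  apply Cfsg.Agent.S2578.mulVecLin_inj
  rw [mulVecLin_aeval, ← hf, h2, he]

/-- `d` has scalar part `a` modulo the ideal generated by `N` in the centralizer of `N` -/
def IsSc (N d : Matrix (Fin n) (Fin n) K) (a : K) : Prop :=
  ∃ d' : Matrix (Fin n) (Fin n) K, d' * N = N * d' ∧ d = a • 1 + N * d'

theorem exists_isSc (hn : 1 ≤ n) {N : Matrix (Fin n) (Fin n) K} (hN : RegNil N)
    (d : Matrix (Fin n) (Fin n) K) (hd : d * N = N * d) : ∃ a : K, IsSc N d a := by
  obtain ⟨p, rfl⟩ := exists_aeval_of_commute hn hN d hd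
  refine ⟨p.coeff 0, aeval N p.divX, ?_, ?_⟩
  · have h3 : aeval N (p.divX * X) = aeval N (X * p.divX) := by rw [mul_comm]
    rwa [map_mul, map_mul, aeval_X] at h3
  · conv_lhs => rw [← Polynomial.divX_mul_X_add p]
    rw [map_add, map_mul, aeval_X, aeval_C, add_comm, Algebra.algebraMap_eq_smul_one]
    congr 1
    have h3 : aeval N (p.divX * X) = aeval N (X * p.divX) := by rw [mul_comm]
    rwa [map_mul, map_mul, aeval_X] at h3

theorem isSc_one (N : Matrix (Fin n) (Fin n) K) : IsSc N 1 1 :=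
  ⟨0, by rw [zero_mul, mul_zero], by rw [one_smul, mul_zero, add_zero]⟩

theorem IsSc.mul {N d e : Matrix (Fin n) (Fin n) K} {a b : K} (hd : IsSc N d a)
    (he : IsSc N e b) : IsSc N (d * e) (a * b) := by
  obtain ⟨d', hd', rfl⟩ := hd
  obtain ⟨e', he', rfl⟩ := he
  refine ⟨a • e' + b • d' + d' * N * e', ?_, ?_⟩
  · have hc1 : Commute d' N := hd'
    have hc2 : Commute e' N := he'
    exact ((hc2.smul_left a).add_left (hc1.smul_left b)).add_left
      ((hc1.mul_left (Commute.refl N)).mul_left hc2)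
  · rw [add_mul, mul_add, mul_add, smul_mul_smul_comm, mul_one, smul_mul_assoc, one_mul,
      mul_smul_comm, mul_one, mul_add, mul_add, mul_smul_comm, mul_smul_comm, mul_assoc N d',
      ← mul_assoc d' N e']
    abel

theorem IsSc.smul {N d : Matrix (Fin n) (Fin n) K} {a : K} (c : K) (hd : IsSc N d a) :
    IsSc N (c • d) (c * a) := by
  obtain ⟨d', hd', rfl⟩ := hd
  refine ⟨c • d', ?_, ?_⟩
  · rw [smul_mul_assoc, mul_smul_comm, hd']
  · rw [smul_add, smul_smul, mul_smul_comm]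

theorem IsSc.commute {N d : Matrix (Fin n) (Fin n) K} {a : K} (hd : IsSc N d a) :
    d * N = N * d := by
  obtain ⟨d', hd', rfl⟩ := hd
  rw [add_mul, mul_add, smul_mul_assoc, one_mul, mul_smul_comm, mul_one, mul_assoc, hd']

theorem pow_mul_eq_zero {N d' : Matrix (Fin n) (Fin n) K} (hN : N ^ n = 0)
    (hd' : d' * N = N * d') : (N * d') ^ n = 0 := by
  have hc : Commute N d' := hd'.symm
  rw [hc.mul_pow, hN, zero_mul]

theorem IsSc.unique (hn : 1 ≤ n) {N d : Matrix (Fin n) (Fin n) K} {a a' : K} (hN : N ^ n = 0)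
    (h : IsSc N d a) (h' : IsSc N d a') : a = a' := by
  obtain ⟨d', hd', h1⟩ := h
  obtain ⟨d'', hd'', h2⟩ := h'
  have h3 : (a - a') • (1 : Matrix (Fin n) (Fin n) K) = N * (d'' - d') := by
    rw [sub_smul, mul_sub]
    rw [h1] at h2
    have h4 : a • (1 : Matrix (Fin n) (Fin n) K) - a' • 1 = N * d'' - N * d' := by
      rw [sub_eq_sub_iff_add_eq_add, h2, add_comm]
    exact h4
  have h4 : ((a - a') • (1 : Matrix (Fin n) (Fin n) K)) ^ n = 0 := by
    rw [h3]
    apply pow_mul_eq_zero hN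
    rw [sub_mul, mul_sub, hd', hd'']
  rw [_root_.smul_pow, one_pow] at h4
  have h5 := congrFun (congrFun h4 ⟨0, hn⟩) ⟨0, hn⟩
  rw [Matrix.smul_apply, Matrix.one_apply_eq, Matrix.zero_apply, smul_eq_mul, mul_one] at h5
  exact sub_eq_zero.1 (pow_eq_zero_iff (by omega) |>.1 h5)

theorem IsSc.ne_zero (hn : 1 ≤ n) {N d d₁ : Matrix (Fin n) (Fin n) K} {a : K} (hN : N ^ n = 0)
    (h : IsSc N d a) (hinv : d * d₁ = 1) : a ≠ 0 := by
  rintro rfl
  obtain ⟨d', hd', rfl⟩ := h
  rw [zero_smul, zero_add] at hinv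
  have h1 := pow_mul_eq_zero hN hd'
  have h2 : (N * d') ^ n * d₁ ^ n = 1 := by
    have hc : Commute (N * d') d₁ := by
      have h3 : d₁ * (N * d') = 1 := mul_eq_one_comm.1 hinv
      show N * d' * d₁ = d₁ * (N * d')
      rw [hinv, h3]
    rw [← hc.mul_pow, hinv, one_pow]
  rw [h1, zero_mul] at h2
  have h5 := congrFun (congrFun h2 ⟨0, hn⟩) ⟨0, hn⟩
  rw [Matrix.zero_apply, Matrix.one_apply_eq] at h5
  exact zero_ne_one h5

/-- determinant of an element of the centralizer in terms of the scalar part -/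
theorem IsSc.det {N d : Matrix (Fin n) (Fin n) K} {a : K} (hN : N ^ n = 0) (h : IsSc N d a) :
    d.det = a ^ n := by
  obtain ⟨d', hd', rfl⟩ := h
  have h1 := pow_mul_eq_zero hN hd'
  have h2 : IsNilpotent (Matrix.toLin' (N * d')) := by
    refine ⟨n, ?_⟩
    have h3 : Matrix.toLin' ((N * d') ^ n) = Matrix.toLin' (N * d') ^ n :=
      map_pow (Matrix.toLinAlgEquiv' (R := K) (n := Fin n)) (N * d') n
    rw [← h3, h1, map_zero]
  have h4 := det_smul_one_add_nilpotent (Matrix.toLin' (N * d')) h2 a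
  rw [Module.finrank_fin_fun] at h4
  rw [← h4, ← LinearMap.det_toLin']
  congr 1
  rw [map_add, map_smul, Matrix.toLin'_one]
  rfl

end Cfsg.Agent.Lib.Helper5.SUReg
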