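import Mathlib
import Cfsg.Agent.Lib.Helper5.SUReg.Cent
import Cfsg.Agent.Lib.Helper5.HermBasis

set_option autoImplicit false

/-!
# Hermitian units of the centralizer of a regular unipotent unitary matrix are norms
-/

namespace Cfsg.Agent.Lib.Helper5.SUReg

open Matrix Polynomial Module Cfsg
open Cfsg.Agent.Lib.Helper5 Cfsg.Agent.Lib.Helper5.HermBasis

section trace
variable {K : Type*} [Field K] {σ : K →+* K}

/-- an element of trace one -/
theorem exists_trace_one (hσ : σ ≠ RingHom.id K) (hσ2 : ∀ a : K, σ (σ a) = a) :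
    ∃ s : K, s + σ s = 1 := by
  by_cases h2 : (2 : K) = 0
  · have hy : ∃ y : K, σ y ≠ y := by
      by_contra hcon
      push Not at hcon
      exact hσ (RingHom.ext hcon)
    obtain ⟨y, hy⟩ := hy
    have hz : y + σ y ≠ 0 := by
      intro h0
      apply hy
      have h3 : σ y = -y := by rw [eq_neg_iff_add_eq_zero, add_comm]; exact h0
      have h4 : -y = y := by
        rw [neg_eq_iff_add_eq_zero, ← two_mul, h2, zero_mul]
      rw [h3, h4]
    refine ⟨y * (y + σ y)⁻¹, ?_⟩
    rw [map_mul, map_inv₀, map_add, hσ2, add_comm (σ y) y, ← add_mul, mul_inv_cancel₀ hz]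
  · refine ⟨2⁻¹, ?_⟩
    rw [map_inv₀, map_ofNat, ← two_mul, mul_inv_cancel₀ h2]

/-- the polynomial identity behind the lifting step -/
theorem lift_identity_aux {R : Type*} [Ring R] [Algebra K R] (a : R) (s t u v : K)
    (h : s + t = 1) (hu : u = s * t - 1) (hv : v = s * t) :
    (1 - t • a) * (1 + a) * (1 - s • a) = 1 + a * a * (u • (1 : R) + v • a) := by
  have h1 : aeval a ((1 - C t * X) * (1 + X) * (1 - C s * X) : K[X]) =
      aeval a (1 + X * X * (C u + C v * X) : K[X]) := by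
    congr 1
    have h2 : (C t : K[X]) = 1 - C s := by
      rw [← C_1, ← C_sub]
      congr 1
      linear_combination h
    rw [hu, hv, C_sub, C_mul, C_1, h2]
    ring
  simp only [map_mul, map_sub, map_add, map_one, aeval_X, aeval_C,
    Algebra.algebraMap_eq_smul_one, smul_mul_assoc, one_mul] at h1
  exact h1

theorem lift_identity {R : Type*} [Ring R] [Algebra K R] (a : R) (s t : K) (h : s + t = 1) :
    (1 - t • a) * (1 + a) * (1 - s • a) =
      1 + a * a * ((s * t - 1) • (1 : R) + (s * t) • a) :=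
  lift_identity_aux a s t _ _ h rfl rfl

end trace

section norm
variable {K : Type*} [Field K] (σ : K →+* K) {n : ℕ}

theorem commute_sub_one_iff (U d : Matrix (Fin n) (Fin n) K) :
    d * (U - 1) = (U - 1) * d ↔ d * U = U * d := by
  rw [mul_sub, sub_mul, mul_one, one_mul]
  constructor
  · intro h; exact sub_left_injective h
  · intro h; rw [h]

/-- the adjoint preserves the centralizer of a unitary matrix -/
theorem adj_commute_of_unitary {U : Matrix (Fin n) (Fin n) K} (hU : adj σ U * U = 1)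
    (d : Matrix (Fin n) (Fin n) K) (hd : d * U = U * d) : adj σ d * U = U * adj σ d := by
  have hU' : U * adj σ U = 1 := mul_eq_one_comm.1 hU
  have h1 : adj σ U * adj σ d = adj σ d * adj σ U := by
    rw [← adj_mul, ← adj_mul, hd]
  calc adj σ d * U = U * adj σ U * (adj σ d * U) := by rw [hU', one_mul]
    _ = U * (adj σ U * adj σ d) * U := by simp only [mul_assoc]
    _ = U * (adj σ d * adj σ U) * U := by rw [h1]
    _ = U * adj σ d * (adj σ U * U) := by simp only [mul_assoc]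
    _ = U * adj σ d := by rw [hU, mul_one]

theorem adj_sub_one {U : Matrix (Fin n) (Fin n) K} (hU : adj σ U * U = 1) :
    adj σ (U - 1) = (U - 1) * (-adj σ U) := by
  have hU' : U * adj σ U = 1 := mul_eq_one_comm.1 hU
  rw [adj_sub, adj_one, sub_mul, mul_neg, hU', one_mul]
  abel

theorem IsSc.adjoint {U d : Matrix (Fin n) (Fin n) K} {a : K} (hU : adj σ U * U = 1)
    (h : IsSc (U - 1) d a) : IsSc (U - 1) (adj σ d) (σ a) := by
  have hU' : U * adj σ U = 1 := mul_eq_one_comm.1 hU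
  obtain ⟨d', hd', rfl⟩ := h
  have hd'U : d' * U = U * d' := (commute_sub_one_iff U d').1 hd'
  have h1 : adj σ d' * U = U * adj σ d' := adj_commute_of_unitary σ hU d' hd'U
  have h1' : adj σ d' * (U - 1) = (U - 1) * adj σ d' := (commute_sub_one_iff U _).2 h1
  have h2 : adj σ U * U = U * adj σ U := by rw [hU, hU']
  have h2' : adj σ U * (U - 1) = (U - 1) * adj σ U := (commute_sub_one_iff U _).2 h2
  refine ⟨adj σ d' * (-adj σ U), ?_, ?_⟩
  · rw [mul_neg, neg_mul, mul_neg, mul_assoc, h2', ← mul_assoc, h1', mul_assoc]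
  · rw [adj_add, adj_smul, adj_one, adj_mul, adj_sub_one σ hU, ← mul_assoc, h1', mul_assoc]

/-- the lifting step of the norm lemma -/
theorem norm_step (hσ : σ ≠ RingHom.id K) (hσ2 : ∀ a : K, σ (σ a) = a)
    {N : Matrix (Fin n) (Fin n) K} (hN : N ^ n = 0) :
    ∀ j k : ℕ, k + j = n → 1 ≤ k → ∀ b : Matrix (Fin n) (Fin n) K, adj σ b = b →
      (∃ d : Matrix (Fin n) (Fin n) K, d * N = N * d ∧ b = 1 + N ^ k * d) →
      ∃ c c₁ : Matrix (Fin n) (Fin n) K, c * N = N * c ∧ c * c₁ = 1 ∧ adj σ c * c = b := by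
  obtain ⟨s, hs⟩ := exists_trace_one hσ hσ2
  intro j
  induction j with
  | zero =>
    intro k hk _ b _ hb
    obtain ⟨d, _, rfl⟩ := hb
    rw [add_zero] at hk
    rw [hk, hN, zero_mul, add_zero]
    exact ⟨1, 1, by rw [one_mul, mul_one], one_mul 1, by rw [adj_one, one_mul]⟩
  | succ j ih =>
    intro k hk hk1 b hbs hb
    obtain ⟨d, hd, hbd⟩ := hb
    obtain ⟨a, ha⟩ : ∃ a : Matrix (Fin n) (Fin n) K, a = N ^ k * d := ⟨_, rfl⟩
    rw [← ha] at hbd
    have hdc : Commute d N := hd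
    have haN : a * N = N * a := by
      rw [ha]
      exact ((Commute.refl N).pow_left k).mul_left hdc
    have has : adj σ a = a := by
      have h1 : adj σ b = 1 + adj σ a := by rw [hbd, adj_add, adj_one]
      rw [hbs, hbd] at h1
      exact (add_left_cancel h1).symm
    -- the correction factor
    obtain ⟨c₁, hc₁⟩ : ∃ c₁ : Matrix (Fin n) (Fin n) K, c₁ = 1 - s • a := ⟨_, rfl⟩
    have hc : Commute (N ^ k) d := hdc.symm.pow_left k
    have han : a ^ n = 0 := by
      rw [ha, hc.mul_pow, ← pow_mul, mul_comm k n, pow_mul, hN, zero_pow (by omega), zero_mul]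
    -- inverse of `c₁`
    obtain ⟨c₂, hc₂⟩ : ∃ c₂ : Matrix (Fin n) (Fin n) K,
      c₂ = ∑ i ∈ Finset.range n, (s • a) ^ i := ⟨_, rfl⟩
    have hsan : (s • a) ^ n = 0 := by rw [_root_.smul_pow, han, smul_zero]
    have h12 : c₁ * c₂ = 1 := by rw [hc₁, hc₂, mul_neg_geom_sum, hsan, sub_zero]
    have h21 : c₂ * c₁ = 1 := mul_eq_one_comm.1 h12
    have hc₁N : c₁ * N = N * c₁ := by
      rw [hc₁, sub_mul, mul_sub, one_mul, mul_one, smul_mul_assoc, mul_smul_comm, haN]
    have hc₂N : c₂ * N = N * c₂ := by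
      calc c₂ * N = c₂ * N * (c₁ * c₂) := by rw [h12, mul_one]
        _ = c₂ * (N * c₁) * c₂ := by simp only [mul_assoc]
        _ = c₂ * (c₁ * N) * c₂ := by rw [hc₁N]
        _ = (c₂ * c₁) * N * c₂ := by simp only [mul_assoc]
        _ = N * c₂ := by rw [h21, one_mul]
    have hadjc₁ : adj σ c₁ = 1 - σ s • a := by rw [hc₁, adj_sub, adj_one, adj_smul, has]
    -- the new hermitian unit
    obtain ⟨b', hb'⟩ : ∃ b' : Matrix (Fin n) (Fin n) K, b' = adj σ c₁ * b * c₁ := ⟨_, rfl⟩
    have hb's : adj σ b' = b' := by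
      rw [hb', adj_mul, adj_mul, adj_adj σ hσ2, hbs, mul_assoc]
    obtain ⟨d'', hd''⟩ : ∃ d'' : Matrix (Fin n) (Fin n) K,
      d'' = N ^ (k - 1) * d * d * ((s * σ s - 1) • (1 : Matrix (Fin n) (Fin n) K) +
        (s * σ s) • a) := ⟨_, rfl⟩
    have hb'eq : b' = 1 + N ^ (k + 1) * d'' := by
      rw [hb', hadjc₁, hbd, hc₁, lift_identity a s (σ s) hs, hd'']
      congr 1
      have haa : a * a = N ^ (k + 1) * (N ^ (k - 1) * d * d) := by
        rw [ha]
        calc N ^ k * d * (N ^ k * d) = N ^ k * (d * N ^ k) * d := by simp only [mul_assoc]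
          _ = N ^ k * (N ^ k * d) * d := by rw [hc.eq]
          _ = N ^ k * N ^ k * d * d := by simp only [mul_assoc]
          _ = N ^ (k + 1) * (N ^ (k - 1) * d * d) := by
              rw [← pow_add, show k + k = (k + 1) + (k - 1) by omega, pow_add]
              simp only [mul_assoc]
      rw [haa]
      simp only [mul_assoc]
    have hd''N : d'' * N = N * d'' := by
      have haN' : Commute a N := haN
      rw [hd'']
      exact ((((Commute.refl N).pow_left (k - 1)).mul_left hdc).mul_left hdc).mul_left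
        (((Commute.one_left N).smul_left (s * σ s - 1)).add_left (haN'.smul_left (s * σ s)))
    obtain ⟨c', c'₁, hc'N, hc'inv, hc'⟩ := ih (k + 1) (by omega) (by omega) b' hb's
      ⟨d'', hd''N, hb'eq⟩
    refine ⟨c' * c₂, c₁ * c'₁, ?_, ?_, ?_⟩
    · rw [mul_assoc, hc₂N, ← mul_assoc, hc'N, mul_assoc]
    · rw [mul_assoc, ← mul_assoc c₂, h21, one_mul, hc'inv]
    · rw [adj_mul, mul_assoc, ← mul_assoc (adj σ c'), hc', hb',
        mul_assoc (adj σ c₁ * b), h12, mul_one, ← mul_assoc, ← adj_mul, h12, adj_one, one_mul]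

/-- **The norm lemma**: a hermitian unit of the centralizer of a regular unipotent unitary
matrix is of the form `adj c * c` with `c` a unit of the centralizer. -/
theorem exists_norm_eq [Finite K] (hσ : σ ≠ RingHom.id K) (hσ2 : ∀ a : K, σ (σ a) = a)
    (hn : 1 ≤ n) {U : Matrix (Fin n) (Fin n) K} (hU : adj σ U * U = 1) (hreg : RegNil (U - 1))
    (b b₁ : Matrix (Fin n) (Fin n) K) (hb : b * U = U * b) (hbs : adj σ b = b)
    (hbinv : b * b₁ = 1) :
    ∃ c c₁ : Matrix (Fin n) (Fin n) K, c * U = U * c ∧ c * c₁ = 1 ∧ adj σ c * c = b := by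
  have hbN : b * (U - 1) = (U - 1) * b := (commute_sub_one_iff U b).2 hb
  obtain ⟨β, hβ⟩ := exists_isSc hn hreg b hbN
  have hβ0 : β ≠ 0 := hβ.ne_zero hn hreg.1 hbinv
  have hβs : σ β = β := by
    have h1 := hβ.adjoint σ hU
    rw [hbs] at h1
    exact IsSc.unique hn hreg.1 h1 hβ
  obtain ⟨γ, hγ⟩ := exists_norm hσ hσ2 β hβ0 hβs
  obtain ⟨d₀, hd₀, hbd⟩ := hβ
  obtain ⟨c, c₁, hcN, hcinv, hc⟩ := norm_step σ hσ hσ2 hreg.1 (n - 1) 1 (by omega) le_rfl
    (β⁻¹ • b) (by rw [adj_smul, map_inv₀, hβs, hbs])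
    ⟨β⁻¹ • d₀, by rw [smul_mul_assoc, mul_smul_comm, hd₀], by
      rw [hbd, smul_add, smul_smul, inv_mul_cancel₀ hβ0, one_smul, pow_one, mul_smul_comm]⟩
  have hγ0 : γ ≠ 0 := by
    rintro rfl
    rw [zero_mul] at hγ
    exact hβ0 hγ.symm
  refine ⟨γ • c, γ⁻¹ • c₁, ?_, ?_, ?_⟩
  · rw [← commute_sub_one_iff, smul_mul_assoc, mul_smul_comm, hcN]
  · rw [smul_mul_smul_comm, mul_inv_cancel₀ hγ0, one_smul, hcinv]
  · rw [adj_smul, smul_mul_smul_comm, hc, smul_smul, mul_comm (σ γ), hγ, mul_inv_cancel₀ hβ0,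
      one_smul]

end norm

end Cfsg.Agent.Lib.Helper5.SUReg
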