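import Mathlib
import Cfsg.Agent.Lib.Helper5.SUReg.Norm

set_option autoImplicit false

/-!
# Regular unipotent elements of `GU_n(q)` are conjugate
-/

namespace Cfsg.Agent.Lib.Helper5.SUReg

open Matrix Polynomial Module Cfsg
open Cfsg.Agent.Lib.Helper5 Cfsg.Agent.Lib.Helper5.HermBasis
open Cfsg.Agent.Lib.Helper5.HermBridge Cfsg.Agent.Lib.Helper5.HermCenter

variable {K : Type*} [Field K] [Fintype K] {q : ℕ} (hK : Fintype.card K = q ^ 2) {n : ℕ}

include hK in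
/-- regular unipotent elements of the general unitary group are conjugate in it -/
theorem isConj_GU_of_reg (hn : 1 ≤ n) (u u' : ↥(Cfsg.GU n K q))
    (hu : Cfsg.Agent.S2578.Reg ((u : GL (Fin n) K) : Matrix (Fin n) (Fin n) K))
    (hu' : Cfsg.Agent.S2578.Reg ((u' : GL (Fin n) K) : Matrix (Fin n) (Fin n) K)) :
    IsConj u u' := by
  obtain ⟨x, hx⟩ := isConj_iff.1 (Cfsg.Agent.S2578.isConj_of_reg hn (u : GL (Fin n) K)
    (u' : GL (Fin n) K) hu hu')
  obtain ⟨σ, hσ⟩ : ∃ σ : K →+* K, σ = sigma hK := ⟨_, rfl⟩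
  have hσ2 : ∀ a : K, σ (σ a) = a := by rw [hσ]; exact sigma_sigma hK
  have hσne : σ ≠ RingHom.id K := by rw [hσ]; exact sigma_ne_id hK
  obtain ⟨U, hU⟩ : ∃ U : Matrix (Fin n) (Fin n) K, U = ((u : GL (Fin n) K) : Matrix _ _ K) :=
    ⟨_, rfl⟩
  obtain ⟨U', hU'⟩ : ∃ U' : Matrix (Fin n) (Fin n) K,
    U' = ((u' : GL (Fin n) K) : Matrix _ _ K) := ⟨_, rfl⟩
  obtain ⟨X, hX⟩ : ∃ X : Matrix (Fin n) (Fin n) K, X = (x : Matrix _ _ K) := ⟨_, rfl⟩
  obtain ⟨X₁, hX₁⟩ : ∃ X₁ : Matrix (Fin n) (Fin n) K,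
    X₁ = ((x⁻¹ : GL (Fin n) K) : Matrix _ _ K) := ⟨_, rfl⟩
  have hXX₁ : X * X₁ = 1 := by rw [hX, hX₁, ← Units.val_mul, mul_inv_cancel, Units.val_one]
  have hX₁X : X₁ * X = 1 := mul_eq_one_comm.1 hXX₁
  have hXU : X * U = U' * X := by
    have h1 : x * (u : GL (Fin n) K) = (u' : GL (Fin n) K) * x := by
      rw [← hx, inv_mul_cancel_right]
    have h2 := congrArg (fun z : GL (Fin n) K => (z : Matrix (Fin n) (Fin n) K)) h1
    simp only [Units.val_mul] at h2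
    rw [hX, hU, hU']
    exact h2
  have hUa : adj σ U * U = 1 := by rw [hσ, hU]; exact adj_mul_self_of_mem_GU hK u
  have hUa' : U * adj σ U = 1 := mul_eq_one_comm.1 hUa
  have hU'a : adj σ U' * U' = 1 := by rw [hσ, hU']; exact adj_mul_self_of_mem_GU hK u'
  have hU'a' : U' * adj σ U' = 1 := mul_eq_one_comm.1 hU'a
  -- `adj X * U' = U * adj X`
  have h1 : adj σ X * U' = U * adj σ X := by
    have h2 : adj σ U * adj σ X = adj σ X * adj σ U' := by
      rw [← adj_mul, ← adj_mul, hXU]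
    calc adj σ X * U' = (U * adj σ U) * adj σ X * U' := by rw [hUa', one_mul]
      _ = U * (adj σ U * adj σ X) * U' := by simp only [mul_assoc]
      _ = U * (adj σ X * adj σ U') * U' := by rw [h2]
      _ = U * adj σ X * (adj σ U' * U') := by simp only [mul_assoc]
      _ = U * adj σ X := by rw [hU'a, mul_one]
  obtain ⟨b, hb⟩ : ∃ b : Matrix (Fin n) (Fin n) K, b = adj σ X * X := ⟨_, rfl⟩
  have hbU : b * U = U * b := by
    rw [hb, mul_assoc, hXU, ← mul_assoc, h1, mul_assoc]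
  have hbs : adj σ b = b := by rw [hb, adj_mul, adj_adj σ hσ2]
  have hbinv : b * (X₁ * adj σ X₁) = 1 := by
    rw [hb, mul_assoc, ← mul_assoc X, hXX₁, one_mul, ← adj_mul, hX₁X, adj_one]
  have : Finite K := Finite.of_fintype K
  obtain ⟨c, c₁, hcU, hcinv, hc⟩ := exists_norm_eq σ hσne hσ2 hn hUa
    (by rw [hU]; exact regNil_of_reg hu) b _ hbU hbs hbinv
  have hc₁c : c₁ * c = 1 := mul_eq_one_comm.1 hcinv
  have hc₁U : c₁ * U = U * c₁ := by
    calc c₁ * U = c₁ * U * (c * c₁) := by rw [hcinv, mul_one]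
      _ = c₁ * (U * c) * c₁ := by simp only [mul_assoc]
      _ = c₁ * (c * U) * c₁ := by rw [hcU]
      _ = (c₁ * c) * U * c₁ := by simp only [mul_assoc]
      _ = U * c₁ := by rw [hc₁c, one_mul]
  -- the unitary conjugator
  obtain ⟨Y, hY⟩ : ∃ Y : Matrix (Fin n) (Fin n) K, Y = X * c₁ := ⟨_, rfl⟩
  have hYa : adj σ Y * Y = 1 := by
    rw [hY, adj_mul, mul_assoc, ← mul_assoc (adj σ X), ← hb, ← hc, mul_assoc, hcinv,
      mul_one, ← adj_mul, hcinv, adj_one]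
  have hYU : Y * U = U' * Y := by
    rw [hY, mul_assoc, hc₁U, ← mul_assoc, hXU, mul_assoc]
  rw [hσ] at hYa
  obtain ⟨y, hy⟩ := exists_GU_of_adj hK Y hYa
  rw [isConj_iff]
  refine ⟨y, ?_⟩
  rw [mul_inv_eq_iff_eq_mul]
  apply Subtype.ext
  apply Units.ext
  show ((y : GL (Fin n) K) : Matrix (Fin n) (Fin n) K) *
      ((u : GL (Fin n) K) : Matrix (Fin n) (Fin n) K) =
    ((u' : GL (Fin n) K) : Matrix (Fin n) (Fin n) K) *
      ((y : GL (Fin n) K) : Matrix (Fin n) (Fin n) K)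
  rw [hy, ← hU, ← hU']
  exact hYU

end Cfsg.Agent.Lib.Helper5.SUReg
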