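import Mathlib
import Cfsg.Agent.Lib.Helper5.SUReg.Herm
import Cfsg.Agent.Lib.Helper5.SUReg.Norm

set_option autoImplicit false

/-!
# Existence of regular unipotent elements in `GU_n(q)`
-/

namespace Cfsg.Agent.Lib.Helper5.SUReg

open Matrix Module Cfsg
open Cfsg.Agent.Lib.Helper5 Cfsg.Agent.Lib.Helper5.HermBasis
open Cfsg.Agent.Lib.Helper5.HermBridge
open Cfsg.Agent.S2578 (J J_apply J_pow J_rank)

section anti
variable {K : Type*} [Field K] (σ : K →+* K) {n : ℕ}

/-- the antidiagonal Gram matrix -/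
def Hm (n : ℕ) (ε : K) : Matrix (Fin n) (Fin n) K :=
  Matrix.of fun i j => if (i : ℕ) + (j : ℕ) + 1 = n then (-1) ^ (i : ℕ) * ε else 0

/-- its inverse -/
def Hm' (n : ℕ) (ε : K) : Matrix (Fin n) (Fin n) K :=
  Matrix.of fun i j => if (i : ℕ) + (j : ℕ) + 1 = n then ((-1) ^ (j : ℕ) * ε)⁻¹ else 0

theorem Hm_apply (ε : K) (i j : Fin n) :
    Hm n ε i j = if (i : ℕ) + (j : ℕ) + 1 = n then (-1) ^ (i : ℕ) * ε else 0 := rfl

theorem Hm'_apply (ε : K) (i j : Fin n) :
    Hm' n ε i j = if (i : ℕ) + (j : ℕ) + 1 = n then ((-1) ^ (j : ℕ) * ε)⁻¹ else 0 := rfl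

theorem adj_Hm (ε : K) (hε : σ ε = (-1) ^ (n + 1) * ε) : adj σ (Hm n ε) = Hm n ε := by
  ext i j
  rw [adj_apply, Hm_apply, Hm_apply]
  by_cases h : (i : ℕ) + (j : ℕ) + 1 = n
  · rw [if_pos h, if_pos (by omega), map_mul, map_pow, map_neg, map_one, hε, ← mul_assoc,
      ← pow_add]
    congr 1
    have h1 : (j : ℕ) + (n + 1) = (i : ℕ) + 2 * ((j : ℕ) + 1) := by omega
    rw [h1, pow_add, pow_mul, neg_one_sq, one_pow, mul_one]
  · rw [if_neg h, if_neg (by omega), map_zero]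

theorem Hm_mul_Hm' (ε : K) (hε0 : ε ≠ 0) : Hm n ε * Hm' n ε = 1 := by
  ext i k
  have hi := i.2
  have hk := k.2
  rw [Matrix.mul_apply, Matrix.one_apply]
  by_cases hik : i = k
  · subst hik
    rw [if_pos rfl, Finset.sum_eq_single (⟨n - 1 - (i : ℕ), by omega⟩ : Fin n)]
    · rw [Hm_apply, Hm'_apply, if_pos (by simp only []; omega), if_pos (by simp only []; omega)]
      exact mul_inv_cancel₀ (mul_ne_zero (pow_ne_zero _ (neg_ne_zero.2 one_ne_zero)) hε0)
    · intro j _ hj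
      rw [Hm_apply, if_neg, zero_mul]
      intro h
      apply hj
      apply Fin.ext
      simp only []
      omega
    · intro h
      exact absurd (Finset.mem_univ _) h
  · rw [if_neg hik]
    apply Finset.sum_eq_zero
    intro j _
    rw [Hm_apply, Hm'_apply]
    by_cases h1 : (i : ℕ) + (j : ℕ) + 1 = n
    · by_cases h2 : (j : ℕ) + (k : ℕ) + 1 = n
      · exfalso
        apply hik
        apply Fin.ext
        omega
      · rw [if_neg h2, mul_zero]
    · rw [if_neg h1, zero_mul]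

theorem adj_J : adj σ (J K n) = (J K n)ᵀ := by
  ext i j
  rw [adj_apply, Matrix.transpose_apply, J_apply]
  split_ifs
  · exact map_one σ
  · exact map_zero σ

theorem Jt_mul_Hm (ε : K) (i j : Fin n) :
    ((J K n)ᵀ * Hm n ε) i j = if (i : ℕ) + (j : ℕ) = n then -((-1) ^ (i : ℕ) * ε) else 0 := by
  have hi := i.2
  have hj := j.2
  rw [Matrix.mul_apply]
  by_cases h : (i : ℕ) + (j : ℕ) = n
  · rw [if_pos h]
    obtain ⟨m, hm⟩ : ∃ m : ℕ, (i : ℕ) = m + 1 := ⟨(i : ℕ) - 1, by omega⟩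
    rw [Finset.sum_eq_single (⟨m, by omega⟩ : Fin n)]
    · rw [Matrix.transpose_apply, J_apply, Hm_apply, if_pos (by simp only []; omega),
        if_pos (by simp only []; omega), one_mul, hm, pow_succ]
      simp only []
      ring
    · intro k _ hk
      rw [Matrix.transpose_apply, J_apply, if_neg, zero_mul]
      intro h1
      apply hk
      apply Fin.ext
      simp only []
      omega
    · intro h1
      exact absurd (Finset.mem_univ _) h1
  · rw [if_neg h]
    apply Finset.sum_eq_zero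
    intro k _
    rw [Matrix.transpose_apply, J_apply, Hm_apply]
    by_cases h1 : (k : ℕ) + 1 = (i : ℕ)
    · rw [if_pos h1, if_neg (by omega), mul_zero]
    · rw [if_neg h1, zero_mul]

theorem Hm_mul_J (ε : K) (i j : Fin n) :
    (Hm n ε * J K n) i j = if (i : ℕ) + (j : ℕ) = n then (-1) ^ (i : ℕ) * ε else 0 := by
  have hi := i.2
  have hj := j.2
  rw [Matrix.mul_apply]
  by_cases h : (i : ℕ) + (j : ℕ) = n
  · rw [if_pos h]
    obtain ⟨m, hm⟩ : ∃ m : ℕ, (j : ℕ) = m + 1 := ⟨(j : ℕ) - 1, by omega⟩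
    rw [Finset.sum_eq_single (⟨m, by omega⟩ : Fin n)]
    · rw [J_apply, Hm_apply, if_pos (by simp only []; omega),
        if_pos (by simp only []; omega), mul_one]
    · intro k _ hk
      rw [J_apply, if_neg, mul_zero]
      intro h1
      apply hk
      apply Fin.ext
      simp only []
      omega
    · intro h1
      exact absurd (Finset.mem_univ _) h1
  · rw [if_neg h]
    apply Finset.sum_eq_zero
    intro k _
    rw [J_apply, Hm_apply]
    by_cases h1 : (k : ℕ) + 1 = (j : ℕ)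
    · rw [if_neg (by omega), zero_mul]
    · rw [if_neg h1, mul_zero]

theorem adj_J_mul_Hm (ε : K) : adj σ (J K n) * Hm n ε = -(Hm n ε * J K n) := by
  ext i j
  rw [adj_J, Jt_mul_Hm, Matrix.neg_apply, Hm_mul_J]
  split_ifs
  · rfl
  · exact neg_zero.symm

theorem exists_eps (hσ : σ ≠ RingHom.id K) (hσ2 : ∀ a : K, σ (σ a) = a) (n : ℕ) :
    ∃ ε : K, ε ≠ 0 ∧ σ ε = (-1) ^ (n + 1) * ε := by
  rcases Nat.even_or_odd n with hn | hn
  · have hy : ∃ y : K, σ y ≠ y := by
      by_contra hcon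
      push Not at hcon
      exact hσ (RingHom.ext hcon)
    obtain ⟨y, hy⟩ := hy
    refine ⟨y - σ y, sub_ne_zero.2 (Ne.symm hy), ?_⟩
    rw [Odd.neg_one_pow hn.add_one, map_sub, hσ2]
    ring
  · refine ⟨1, one_ne_zero, ?_⟩
    rw [Even.neg_one_pow hn.add_one, map_one, mul_one]

end anti

section cayley
variable {K : Type*} [Field K] (σ : K →+* K) {n : ℕ}

/-- the Cayley transform of a nilpotent skew-adjoint matrix -/
theorem exists_cayley (hσ2 : ∀ a : K, σ (σ a) = a) {Jm H : Matrix (Fin n) (Fin n) K}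
    (hJ : Jm ^ n = 0) (hskew : adj σ Jm * H = -(H * Jm)) (s : K) (hs : s + σ s = 1) :
    ∃ M Bi Bm : Matrix (Fin n) (Fin n) K, Bm * Bi = 1 ∧ Jm * Bi = Bi * Jm ∧
      M - 1 = Jm * Bi ∧ adj σ M * H * M = H := by
  obtain ⟨t, ht⟩ : ∃ t : K, t = σ s := ⟨_, rfl⟩
  rw [← ht] at hs
  obtain ⟨A, hA⟩ : ∃ A : Matrix (Fin n) (Fin n) K, A = 1 + s • Jm := ⟨_, rfl⟩
  obtain ⟨Bm, hBm⟩ : ∃ Bm : Matrix (Fin n) (Fin n) K, Bm = 1 - t • Jm := ⟨_, rfl⟩
  obtain ⟨Bi, hBi⟩ : ∃ Bi : Matrix (Fin n) (Fin n) K,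
    Bi = ∑ i ∈ Finset.range n, (t • Jm) ^ i := ⟨_, rfl⟩
  have htJ : (t • Jm) ^ n = 0 := by rw [_root_.smul_pow, hJ, smul_zero]
  have h12 : Bm * Bi = 1 := by rw [hBm, hBi, mul_neg_geom_sum, htJ, sub_zero]
  have h21 : Bi * Bm = 1 := mul_eq_one_comm.1 h12
  have hJJ : Commute Jm Jm := Commute.refl Jm
  have hJBi : Commute Jm Bi := by
    rw [hBi]
    exact Commute.sum_right _ _ _ (fun i _ => (hJJ.smul_right t).pow_right i)
  have hABm : A * Bm = Bm * A := by
    rw [hA, hBm]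
    exact (Commute.one_left _).add_left
      ((Commute.one_right (s • Jm)).sub_right ((hJJ.smul_left s).smul_right t))
  have hadjA : adj σ A = 1 + t • adj σ Jm := by rw [hA, adj_add, adj_one, adj_smul, ht]
  have hadjBm : adj σ Bm = 1 - s • adj σ Jm := by
    rw [hBm, adj_sub, adj_one, adj_smul, ht, hσ2]
  have h1 : adj σ A * H = H * Bm := by
    rw [hadjA, hBm, add_mul, one_mul, smul_mul_assoc, hskew, mul_sub, mul_one, mul_smul_comm,
      smul_neg, sub_eq_add_neg]
  have h2 : adj σ Bm * H = H * A := by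
    rw [hadjBm, hA, sub_mul, one_mul, smul_mul_assoc, hskew, mul_add, mul_one, mul_smul_comm,
      smul_neg, sub_neg_eq_add]
  have h3 : adj σ Bi * adj σ Bm = 1 := by rw [← adj_mul, h12, adj_one]
  refine ⟨A * Bi, Bi, Bm, h12, hJBi, ?_, ?_⟩
  · have h4 : A - Bm = Jm := by
      rw [hA, hBm, add_sub_sub_cancel, ← add_smul, hs, one_smul]
    calc A * Bi - 1 = A * Bi - Bm * Bi := by rw [h12]
      _ = (A - Bm) * Bi := by rw [sub_mul]
      _ = Jm * Bi := by rw [h4]
  · calc adj σ (A * Bi) * H * (A * Bi) = adj σ Bi * (adj σ A * H) * A * Bi := by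
          rw [adj_mul]; simp only [mul_assoc]
      _ = adj σ Bi * H * (Bm * A) * Bi := by rw [h1]; simp only [mul_assoc]
      _ = adj σ Bi * (H * A) * (Bm * Bi) := by rw [← hABm]; simp only [mul_assoc]
      _ = adj σ Bi * adj σ Bm * H := by rw [← h2, h12, mul_one]; simp only [mul_assoc]
      _ = H := by rw [h3, one_mul]

theorem conj_pow_of_inv {P P' : Matrix (Fin n) (Fin n) K} (h : P' * P = 1)
    (X : Matrix (Fin n) (Fin n) K) (k : ℕ) : (P * X * P') ^ k = P * X ^ k * P' := by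
  have h' : P * P' = 1 := mul_eq_one_comm.1 h
  induction k with
  | zero => rw [pow_zero, pow_zero, mul_one, h']
  | succ k ih =>
    rw [pow_succ, ih, pow_succ]
    calc P * X ^ k * P' * (P * X * P') = P * X ^ k * (P' * P) * X * P' := by
          simp only [mul_assoc]
      _ = P * (X ^ k * X) * P' := by rw [h, mul_one]; simp only [mul_assoc]

end cayley

section exist
variable {K : Type*} [Field K] [Fintype K] {q : ℕ} (hK : Fintype.card K = q ^ 2) {n : ℕ}

include hK in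
/-- the general unitary group contains regular unipotent elements -/
theorem exists_reg_GU (hn : 1 ≤ n) : ∃ u : ↥(Cfsg.GU n K q),
    Cfsg.Agent.S2578.Reg ((u : GL (Fin n) K) : Matrix (Fin n) (Fin n) K) := by
  obtain ⟨σ, hσ⟩ : ∃ σ : K →+* K, σ = sigma hK := ⟨_, rfl⟩
  have hσ2 : ∀ a : K, σ (σ a) = a := by rw [hσ]; exact sigma_sigma hK
  have hσne : σ ≠ RingHom.id K := by rw [hσ]; exact sigma_ne_id hK
  have : Finite K := Finite.of_fintype K
  obtain ⟨ε, hε0, hε⟩ := exists_eps σ hσne hσ2 n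
  obtain ⟨P, P', hP'P, hPH⟩ := exists_adj_mul_self σ hσne hσ2 (Hm n ε) (Hm' n ε)
    (adj_Hm σ ε hε) (Hm_mul_Hm' ε hε0)
  have hPP' : P * P' = 1 := mul_eq_one_comm.1 hP'P
  obtain ⟨s, hs⟩ := exists_trace_one hσne hσ2
  obtain ⟨M, Bi, Bm, hBmBi, hJBi, hM1, hMH⟩ := exists_cayley σ hσ2 (J_pow (F := K) (n := n))
    (adj_J_mul_Hm σ ε) s hs
  obtain ⟨U, hU⟩ : ∃ U : Matrix (Fin n) (Fin n) K, U = P * M * P' := ⟨_, rfl⟩
  have hUa : adj σ U * U = 1 := by
    calc adj σ U * U = adj σ P' * adj σ M * adj σ P * (P * M * P') := by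
          rw [hU, adj_mul, adj_mul]; simp only [mul_assoc]
      _ = adj σ P' * (adj σ M * (adj σ P * P) * M) * P' := by simp only [mul_assoc]
      _ = adj σ P' * (adj σ P * P) * P' := by rw [hPH, hMH]
      _ = adj σ (P * P') * (P * P') := by rw [adj_mul]; simp only [mul_assoc]
      _ = 1 := by rw [hPP', adj_one, one_mul]
  rw [hσ] at hUa
  obtain ⟨u, hu⟩ := exists_GU_of_adj hK U hUa
  refine ⟨u, ?_⟩
  rw [hu]
  have hU1 : U - 1 = P * (M - 1) * P' := by
    rw [mul_sub, sub_mul, mul_one, hPP', hU]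
  have hdP : IsUnit P.det := Matrix.isUnit_det_of_right_inverse hPP'
  have hdP' : IsUnit P'.det := Matrix.isUnit_det_of_left_inverse hPP'
  have hdBi : IsUnit Bi.det := Matrix.isUnit_det_of_left_inverse hBmBi
  constructor
  · rw [hU1, conj_pow_of_inv hP'P, hM1, (show Commute (J K n) Bi from hJBi).mul_pow, J_pow,
      zero_mul, mul_zero, zero_mul]
  · rw [hU1, Matrix.rank_mul_eq_left_of_isUnit_det _ _ hdP',
      Matrix.rank_mul_eq_right_of_isUnit_det _ _ hdP, hM1,
      Matrix.rank_mul_eq_left_of_isUnit_det _ _ hdBi]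
    exact J_rank hn

end exist

end Cfsg.Agent.Lib.Helper5.SUReg
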