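import Mathlib
import Cfsg.Agent.Lib.Helper5.SUReg.Conj
import Cfsg.Agent.Lib.Helper5.SUReg.Exist
import Cfsg.Agent.Lib.Helper5.ClassSplitting
import Cfsg.Agent.Lib.Helper5.HermCard
import Cfsg.Agent.Lib.Helper5.PGUr.Center

set_option autoImplicit false

/-!
# The regular unipotent classes of `SU_n(q)`
-/

namespace Cfsg.Agent.Lib.Helper5.SUReg

open Matrix Module Cfsg
open Cfsg.Agent.Lib.Helper5 Cfsg.Agent.Lib.Helper5.HermBasis
open Cfsg.Agent.Lib.Helper5.HermBridge Cfsg.Agent.Lib.Helper5.HermCenter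
open Cfsg.Agent.Lib.Helper5.HermCard Cfsg.Agent.Lib.Helper5.HermCount
open Cfsg.Agent.Lib.Helper5.PGUr Cfsg.Agent.Lib.Helper4.PGLInvol

variable {K : Type*} [Field K] [Fintype K] {q : ℕ} (hK : Fintype.card K = q ^ 2) (n : ℕ)

/-- the inclusion of `SU` in `GU` -/
noncomputable def suToGU : ↥(Cfsg.SU n K q) →* ↥(Cfsg.GU n K q) where
  toFun A := ⟨Matrix.SpecialLinearGroup.toGL A.1, fun u v => A.2 u v⟩
  map_one' := by
    apply Subtype.ext
    exact map_one Matrix.SpecialLinearGroup.toGL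
  map_mul' A B := by
    apply Subtype.ext
    exact map_mul Matrix.SpecialLinearGroup.toGL A.1 B.1

omit [Fintype K] in
theorem suToGU_val (A : ↥(Cfsg.SU n K q)) :
    ((suToGU n A : ↥(Cfsg.GU n K q)) : GL (Fin n) K) = Matrix.SpecialLinearGroup.toGL A.1 := rfl

omit [Fintype K] in
theorem suToGU_injective : Function.Injective (suToGU (K := K) (q := q) n) := by
  intro A B h
  have h1 : Matrix.SpecialLinearGroup.toGL A.1 = Matrix.SpecialLinearGroup.toGL B.1 :=
    congrArg Subtype.val h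
  exact Subtype.ext (Matrix.SpecialLinearGroup.toGL_injective h1)

/-- the determinant from `GU` to the norm-one group -/
noncomputable def detU : ↥(Cfsg.GU n K q) →* ↥(normHom K q).ker :=
  (detGU K q n).codRestrict _ (detGU_mem_ker hK)

theorem detU_val (g : ↥(Cfsg.GU n K q)) :
    (((detU hK n g : ↥(normHom K q).ker) : Kˣ) : K) =
      ((g : GL (Fin n) K) : Matrix (Fin n) (Fin n) K).det := rfl

theorem detU_surjective (hn : 1 ≤ n) : Function.Surjective (detU hK n) := by
  rintro ⟨x, hx⟩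
  obtain ⟨g, hg⟩ := exists_detGU_eq hK hn x hx
  exact ⟨g, Subtype.ext hg⟩

theorem exists_su_of_detU (h : ↥(Cfsg.GU n K q)) (hh : detU hK n h = 1) :
    ∃ k : ↥(Cfsg.SU n K q), suToGU n k = h := by
  have h1 : ((h : GL (Fin n) K) : Matrix (Fin n) (Fin n) K).det = 1 := by
    rw [← detU_val hK, hh]
    rfl
  refine ⟨⟨⟨((h : GL (Fin n) K) : Matrix (Fin n) (Fin n) K), h1⟩, fun u v => h.2 u v⟩, ?_⟩
  apply Subtype.ext
  apply Units.ext
  rfl

theorem detU_suToGU (k : ↥(Cfsg.SU n K q)) : detU hK n (suToGU n k) = 1 := by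
  apply Subtype.ext
  apply Units.ext
  rw [detU_val]
  exact k.1.2

variable {n}

/-- the determinants of the centralizer of a regular unipotent element of `GU` -/
theorem map_det_centralizer (hn : 1 ≤ n) (u₀ : ↥(Cfsg.GU n K q))
    (hu₀ : Cfsg.Agent.S2578.Reg ((u₀ : GL (Fin n) K) : Matrix (Fin n) (Fin n) K)) :
    (Subgroup.centralizer {u₀}).map (detU hK n) =
      (powMonoidHom n : ↥(normHom K q).ker →* ↥(normHom K q).ker).range := by
  obtain ⟨U, hU⟩ : ∃ U : Matrix (Fin n) (Fin n) K,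
    U = ((u₀ : GL (Fin n) K) : Matrix _ _ K) := ⟨_, rfl⟩
  have hreg : RegNil (U - 1) := by rw [hU]; exact regNil_of_reg hu₀
  have hUa : adj (sigma hK) U * U = 1 := by rw [hU]; exact adj_mul_self_of_mem_GU hK u₀
  ext a
  constructor
  · rintro ⟨g, hg, rfl⟩
    rw [SetLike.mem_coe, Subgroup.mem_centralizer_singleton_iff] at hg
    obtain ⟨Gm, hGm⟩ : ∃ Gm : Matrix (Fin n) (Fin n) K,
      Gm = ((g : GL (Fin n) K) : Matrix _ _ K) := ⟨_, rfl⟩
    have hGU : Gm * U = U * Gm := by
      have h1 := congrArg (fun z : ↥(Cfsg.GU n K q) =>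
        ((z : GL (Fin n) K) : Matrix (Fin n) (Fin n) K)) hg
      rw [hGm, hU]
      exact h1
    obtain ⟨c, hc⟩ := exists_isSc hn hreg Gm ((commute_sub_one_iff U Gm).2 hGU)
    have hGa : adj (sigma hK) Gm * Gm = 1 := by rw [hGm]; exact adj_mul_self_of_mem_GU hK g
    have hGa' : Gm * adj (sigma hK) Gm = 1 := mul_eq_one_comm.1 hGa
    have hc0 : c ≠ 0 := hc.ne_zero hn hreg.1 hGa'
    have hcn : sigma hK c * c = 1 := by
      have h1 := (hc.adjoint (sigma hK) hUa).mul hc
      rw [hGa] at h1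
      exact IsSc.unique hn hreg.1 h1 (isSc_one _)
    have hdet : Gm.det = c ^ n := hc.det hreg.1
    have hcker : Units.mk0 c hc0 ∈ (normHom K q).ker := by
      rw [MonoidHom.mem_ker]
      apply Units.ext
      show c ^ (q + 1) = 1
      rw [pow_succ, ← sigma_apply hK, hcn]
    refine ⟨⟨Units.mk0 c hc0, hcker⟩, ?_⟩
    apply Subtype.ext
    apply Units.ext
    rw [detU_val, ← hGm, hdet]
    rfl
  · rintro ⟨⟨a, ha⟩, rfl⟩
    have ha1 : a ^ (q + 1) = 1 := by
      rw [MonoidHom.mem_ker] at ha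
      exact ha
    refine ⟨scU hK a ha1, ?_, ?_⟩
    · rw [SetLike.mem_coe, Subgroup.mem_centralizer_singleton_iff]
      exact (Subgroup.mem_center_iff.1 (scU_mem_center hK a ha1) u₀).symm
    · apply Subtype.ext
      apply Units.ext
      rw [detU_val, scU_val, sc_val]
      show (Matrix.diagonal (fun _ : Fin n => (a : K))).det = _
      rw [det_scalar]
      rfl

include hK in
/-- **The regular unipotent elements of `SU_n(q)` form `gcd(n, q + 1)` classes.** -/
theorem card_reg_classes_SU (hn : 1 ≤ n) :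
    Nat.card {C : ConjClasses ↥(Cfsg.SU n K q) // ∃ u : ↥(Cfsg.SU n K q),
      ConjClasses.mk u = C ∧
        (((u : GL (Fin n) K) : Matrix (Fin n) (Fin n) K) - 1) ^ n = 0 ∧
        (((u : GL (Fin n) K) : Matrix (Fin n) (Fin n) K) - 1).rank = n - 1} =
      Nat.gcd n (q + 1) := by
  classical
  obtain ⟨u₀, hu₀⟩ := exists_reg_GU hK hn
  have hdet₀ : detU hK n u₀ = 1 := by
    apply Subtype.ext
    apply Units.ext
    rw [detU_val]
    have h1 : IsSc (((u₀ : GL (Fin n) K) : Matrix (Fin n) (Fin n) K) - 1)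
        ((u₀ : GL (Fin n) K) : Matrix (Fin n) (Fin n) K) 1 :=
      ⟨1, by rw [one_mul, mul_one], by rw [one_smul, mul_one, add_sub_cancel]⟩
    rw [h1.det hu₀.1, one_pow]
    rfl
  have key := card_conjClasses_splitting (suToGU n) (suToGU_injective n) (detU hK n)
    (detU_surjective hK n hn) (exists_su_of_detU hK n) (detU_suToGU hK n) u₀ hdet₀
  rw [map_det_centralizer hK hn u₀ hu₀, IsCyclic.index_powMonoidHom_range, card_ker hK,
    Nat.gcd_comm] at key
  rw [← key]
  apply Nat.card_congr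
  apply Equiv.subtypeEquivRight
  intro C
  apply exists_congr
  intro u
  apply and_congr_right
  intro _
  constructor
  · intro h
    exact isConj_GU_of_reg hK hn u₀ (suToGU n u) hu₀ h
  · intro h
    have h1 : IsConj (u₀ : GL (Fin n) K) ((suToGU n u : ↥(Cfsg.GU n K q)) : GL (Fin n) K) :=
      (Cfsg.GU n K q).subtype.map_isConj h
    exact Cfsg.Agent.S2578.reg_of_isConj _ _ h1 hu₀

end Cfsg.Agent.Lib.Helper5.SUReg
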